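/-
Quotients of sheaves of sets by equivalence relations: effectiveness, stability of epimorphisms,
descent along epimorphisms; quotient sheaves of sheaves of groups by subgroup sheaves.
-/
import Mathlib.CategoryTheory.Sites.RegularEpi
import Mathlib.CategoryTheory.Sites.LocallySurjective
import Mathlib.CategoryTheory.Sites.CartesianMonoidal
import Mathlib.CategoryTheory.EquivalenceRelation
import Mathlib.CategoryTheory.Monoidal.Cartesian.Grp
import Mathlib.CategoryTheory.Limits.Types.Pullbacks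

universe w v₁ u₁

open CategoryTheory Limits Opposite MonoidalCategory CartesianMonoidalCategory
  SemiCartesianMonoidalCategory

set_option backward.isDefEq.respectTransparency false

namespace Groth.Agent.ShfQuotLib

variable {C : Type u₁} [Category.{v₁} C] {J : GrothendieckTopology C}

section Epi

variable [HasSheafify J (Type w)]

theorem epi_snd_of_isPullback {P X Y Z : Sheaf J (Type w)} {fst' : P ⟶ X} {snd' : P ⟶ Y}
    {f : X ⟶ Z} {g : Y ⟶ Z} (h : IsPullback fst' snd' f g) [Epi f] : Epi snd' := by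
  rw [← Sheaf.isLocallySurjective_iff_epi]
  haveI : Sheaf.IsLocallySurjective f := (Sheaf.isLocallySurjective_iff_epi f).2 inferInstance
  refine ⟨fun {U} y => J.superset_covering ?_ (Presheaf.imageSieve_mem J f.hom (g.hom.app (op U) y))⟩
  rintro V i ⟨x, hx⟩
  have hp : IsPullback (fst'.hom.app (op V)) (snd'.hom.app (op V)) (f.hom.app (op V))
      (g.hom.app (op V)) :=
    (h.map (sheafToPresheaf J (Type w))).app (op V)
  obtain ⟨p, hp₁, hp₂⟩ := Types.exists_of_isPullback hp x (Y.obj.map i.op y)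
    (hx.trans (ConcreteCategory.congr_hom (g.hom.naturality i.op) y).symm)
  exact ⟨p, hp₂⟩

/-- Lifting along an epimorphism up to an epimorphism. -/
theorem exists_lift_of_epi {X Y Z : Sheaf J (Type w)} (e : X ⟶ Y) [Epi e] (y : Z ⟶ Y) :
    ∃ (W : Sheaf J (Type w)) (c : W ⟶ Z) (_ : Epi c) (x : W ⟶ X), c ≫ y = x ≫ e :=
  ⟨pullback e y, pullback.snd e y, epi_snd_of_isPullback (IsPullback.of_hasPullback e y),
    pullback.fst e y, pullback.condition.symm⟩

theorem exists_lift_of_epi₂ {X Y X' Y' Z : Sheaf J (Type w)} (e : X ⟶ Y) [Epi e] (e' : X' ⟶ Y')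
    [Epi e'] (y : Z ⟶ Y) (y' : Z ⟶ Y') :
    ∃ (W : Sheaf J (Type w)) (c : W ⟶ Z) (_ : Epi c) (x : W ⟶ X) (x' : W ⟶ X'),
      c ≫ y = x ≫ e ∧ c ≫ y' = x' ≫ e' := by
  obtain ⟨W, c, _, x, hx⟩ := exists_lift_of_epi e y
  obtain ⟨W', c', _, x', hx'⟩ := exists_lift_of_epi e' (c ≫ y')
  exact ⟨W', c' ≫ c, epi_comp _ _, c' ≫ x, x', by rw [Category.assoc, hx, Category.assoc],
    by rw [Category.assoc, hx']⟩

theorem epi_tensorHom {X Y X' Y' : Sheaf J (Type w)} (e : X ⟶ Y) [Epi e] (e' : X' ⟶ Y') [Epi e'] :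
    Epi (e ⊗ₘ e') := by
  obtain ⟨W, c, _, x, x', hx, hx'⟩ := exists_lift_of_epi₂ e e' (fst Y Y') (snd Y Y')
  refine @epi_of_epi_fac _ _ _ _ _ (lift x x') (e ⊗ₘ e') c inferInstance ?_
  apply hom_ext
  · rw [Category.assoc, tensorHom_fst, lift_fst_assoc, hx]
  · rw [Category.assoc, tensorHom_snd, lift_snd_assoc, hx']

theorem epi_whiskerRight {X Y : Sheaf J (Type w)} (e : X ⟶ Y) [Epi e] (Z : Sheaf J (Type w)) :
    Epi (e ▷ Z) := by
  rw [← tensorHom_id]; exact epi_tensorHom e (𝟙 Z)

theorem epi_whiskerLeft {X Y : Sheaf J (Type w)} (e : X ⟶ Y) [Epi e] (Z : Sheaf J (Type w)) :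
    Epi (Z ◁ e) := by
  rw [← id_tensorHom]; exact epi_tensorHom (𝟙 Z) e

/-- Descent along an epimorphism. -/
theorem exists_desc {X Y Z : Sheaf J (Type w)} (e : X ⟶ Y) [Epi e] (φ : X ⟶ Z)
    (h : ∀ (W : Sheaf J (Type w)) (a b : W ⟶ X), a ≫ e = b ≫ e → a ≫ φ = b ≫ φ) :
    ∃ ψ : Y ⟶ Z, e ≫ ψ = φ := by
  haveI : EffectiveEpi e := by
    haveI := IsRegularEpiCategory.regularEpiOfEpi e
    exact (isRegularEpi_iff_effectiveEpi e).1 inferInstance
  exact ⟨EffectiveEpi.desc e φ (fun g₁ g₂ hg => h _ g₁ g₂ hg), EffectiveEpi.fac e φ _⟩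

end Epi

section Effective

variable {R X : Sheaf J (Type w)} {p₁ p₂ : R ⟶ X}

theorem jointlyMono_app (e : EquivalenceRelation p₁ p₂) (U : Cᵒᵖ) {r r' : R.obj.obj U}
    (h₁ : p₁.hom.app U r = p₁.hom.app U r') (h₂ : p₂.hom.app U r = p₂.hom.app U r') : r = r' := by
  haveI : Mono (lift p₁ p₂) := ⟨fun a b hab => e.right_cancellation a b
    (by simpa using hab =≫ fst _ _) (by simpa using hab =≫ snd _ _)⟩
  have hm : Mono ((lift p₁ p₂).hom.app U) :=
    inferInstanceAs (Mono (((sheafToPresheaf J (Type w)).map (lift p₁ p₂)).app U))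
  rw [mono_iff_injective] at hm
  exact hm (Prod.ext h₁ h₂)

theorem equivalence_app (e : EquivalenceRelation p₁ p₂) (U : Cᵒᵖ) :
    Equivalence (TypeCat.Rel.ofPair (p₁.hom.app U) (p₂.hom.app U)) := by
  haveI : JointlyMono₂ ((sheafToPresheaf J (Type w) ⋙ (evaluation _ _).obj U).map p₁)
      ((sheafToPresheaf J (Type w) ⋙ (evaluation _ _).obj U).map p₂) :=
    ⟨fun T f g h₁ h₂ => by
      ext t
      exact jointlyMono_app e U (ConcreteCategory.congr_hom h₁ t) (ConcreteCategory.congr_hom h₂ t)⟩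
  let F := sheafToPresheaf J (Type w) ⋙ (evaluation _ _).obj U
  exact TypeCat.equivalence_of_equivalenceRelation (p₁ := F.map p₁) (p₂ := F.map p₂)
    { e.toReflexiveRelation.map F, e.toSymmetricRelation.map F, e.toTransitiveRelation.map F with }

variable (p₁ p₂) in
/-- The presheaf quotient. -/
def quotPre : Cᵒᵖ ⥤ Type w where
  obj U := Quot (TypeCat.Rel.ofPair (p₁.hom.app U) (p₂.hom.app U))
  map {U V} i := ↾(Quot.map (X.obj.map i) (by
    rintro a b ⟨r, h₁, h₂⟩
    refine ⟨R.obj.map i r, ?_, ?_⟩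
    · rw [← h₁]; exact ConcreteCategory.congr_hom (p₁.hom.naturality i) r
    · rw [← h₂]; exact ConcreteCategory.congr_hom (p₂.hom.naturality i) r))
  map_id U := by
    ext x
    induction x using Quot.ind with
    | _ x => simp [Quot.map]
  map_comp {U V W} i j := by
    ext x
    induction x using Quot.ind with
    | _ x => simp [Quot.map]

variable (p₁ p₂) in
/-- The projection to the presheaf quotient. -/
def quotPreπ : X.obj ⟶ quotPre p₁ p₂ where
  app U := ↾(Quot.mk _)

theorem isPullback_quotPre (e : EquivalenceRelation p₁ p₂) :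
    IsPullback p₁.hom p₂.hom (quotPreπ p₁ p₂) (quotPreπ p₁ p₂) := by
  refine IsPullback.of_forall_isPullback_app fun U => ?_
  rw [Types.isPullback_iff]
  refine ⟨?_, fun r r' h => jointlyMono_app e U h.1 h.2, fun a b hab => ?_⟩
  · ext r
    exact Quot.sound ⟨r, rfl, rfl⟩
  · obtain ⟨r, h₁, h₂⟩ := ((equivalence_app e U).eqvGen_iff).1 (Quot.eqvGen_exact hab)
    exact ⟨r, h₁, h₂⟩

variable [HasSheafify J (Type w)]

/-- Equivalence relations of sheaves of sets are kernel pairs. -/
theorem exists_isKernelPair (e : EquivalenceRelation p₁ p₂) :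
    ∃ (Q : Sheaf J (Type w)) (φ : X ⟶ Q), IsKernelPair φ p₁ p₂ := by
  let adj := sheafificationAdjunction J (Type w)
  refine ⟨(presheafToSheaf J (Type w)).obj (quotPre p₁ p₂),
    inv (adj.counit.app X) ≫ (presheafToSheaf J (Type w)).map (quotPreπ p₁ p₂), ?_⟩
  refine IsPullback.of_iso ((isPullback_quotPre e).map (presheafToSheaf J (Type w)))
    (asIso (adj.counit.app R)) (asIso (adj.counit.app X)) (asIso (adj.counit.app X)) (Iso.refl _)
    ?_ ?_ ?_ ?_
  · exact adj.counit.naturality p₁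
  · exact adj.counit.naturality p₂
  · simp
  · simp

/-- In sheaves of sets, equivalence relations are kernel pairs of their coequalizers. -/
theorem isKernelPair_coequalizer (e : EquivalenceRelation p₁ p₂) :
    IsKernelPair (coequalizer.π p₁ p₂) p₁ p₂ := by
  obtain ⟨Q, φ, hφ⟩ := exists_isKernelPair e
  refine IsKernelPair.cancel_right (coequalizer.condition _ _) (f₂ := coequalizer.desc φ hφ.w) ?_
  rwa [coequalizer.π_desc]

end Effective

section Group

open MonObj

variable [HasSheafify J (Type w)]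
variable {H G : Sheaf J (Type w)} [hH : GrpObj H] [hG : GrpObj G] (u : H ⟶ G)

/-- The action of `H` on `G` by right multiplication. -/
abbrev mulr : G ⊗ H ⟶ G := (G ◁ u) ≫ hG.mul

/-- The quotient map `G ⟶ G/H`. -/
noncomputable abbrev qπ : G ⟶ coequalizer (fst G H) (mulr u) := coequalizer.π (fst G H) (mulr u)

omit [HasSheafify J (Type w)] in
theorem lift_mulr {W : Sheaf J (Type w)} (g : W ⟶ G) (h : W ⟶ H) :
    lift g h ≫ mulr u = g * (h ≫ u) := by
  rw [Hom.mul_def, ← Category.assoc, lift_whiskerLeft]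

theorem lift_mul_qπ {W : Sheaf J (Type w)} (g : W ⟶ G) (h : W ⟶ H) :
    (g * (h ≫ u)) ≫ qπ u = g ≫ qπ u := by
  rw [← lift_mulr, Category.assoc, ← coequalizer.condition, lift_fst_assoc]

variable [Mono u] (hu : IsMonHom u)
include hu

omit [HasSheafify J (Type w)] in
theorem equivRel_mulr [HasPullback (mulr u) (fst G H)] :
    Nonempty (EquivalenceRelation (fst G H) (mulr u)) := by
  haveI := hu
  refine ⟨{
    right_cancellation := ?_
    r := lift (𝟙 G) 1
    reflexivity₁ := lift_fst _ _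
    reflexivity₂ := ?_
    s := lift (mulr u) (snd G H)⁻¹
    symmetry₁ := lift_fst _ _
    symmetry₂ := ?_
    c := pullback.cone _ _
    isLimit := pullback.isLimit _ _
    t := lift (pullback.fst (mulr u) (fst G H) ≫ fst G H)
      ((pullback.fst (mulr u) (fst G H) ≫ snd G H) * (pullback.snd (mulr u) (fst G H) ≫ snd G H))
    transitivity₁ := lift_fst _ _
    transitivity₂ := ?_ }⟩
  · intro W f g h₁ h₂
    apply hom_ext _ _ h₁
    rw [← cancel_mono u]
    rw [← lift_comp_fst_snd f, ← lift_comp_fst_snd g, lift_mulr, lift_mulr, ← h₁] at h₂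
    simpa using mul_left_cancel h₂
  · rw [lift_mulr, Hom.one_def]
    simp [← Hom.one_def]
  · rw [lift_mulr, GrpObj.inv_comp]
    have e : mulr u = fst G H * (snd G H ≫ u) := by rw [← lift_mulr, lift_fst_snd, Category.id_comp]
    rw [e, mul_inv_cancel_right]
  · have e : ∀ {W : Sheaf J (Type w)} (a : W ⟶ G ⊗ H),
        a ≫ mulr u = (a ≫ fst G H) * (a ≫ snd G H ≫ u) := fun a => by
      rw [← Category.assoc a (snd G H) u, ← lift_mulr, lift_comp_fst_snd]
    show _ = pullback.snd (mulr u) (fst G H) ≫ mulr u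
    rw [lift_mulr, MonObj.mul_comp, Category.assoc, Category.assoc,
      e (pullback.snd (mulr u) (fst G H)), ← _root_.mul_assoc]
    exact congrArg (· * _) ((e _).symm.trans pullback.condition)

/-- The kernel pair of the quotient map. -/
theorem isKernelPair_qπ : IsKernelPair (qπ u) (fst G H) (mulr u) := by
  obtain ⟨e⟩ := equivRel_mulr u hu
  exact isKernelPair_coequalizer e

/-- Two sections have the same image in the quotient iff they differ by a section of `H`. -/
theorem qπ_eq_iff {W : Sheaf J (Type w)} (g g' : W ⟶ G) :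
    g ≫ qπ u = g' ≫ qπ u ↔ ∃ h : W ⟶ H, g' = g * (h ≫ u) := by
  constructor
  · intro hg
    let l := (isKernelPair_qπ u hu).lift g g' hg
    refine ⟨l ≫ snd G H, ?_⟩
    have h₁ : l ≫ fst G H = g := IsPullback.lift_fst _ _ _ _
    have h₂ : l ≫ mulr u = g' := IsPullback.lift_snd _ _ _ _
    rw [← h₂, ← h₁, ← lift_mulr, lift_comp_fst_snd]
  · rintro ⟨h, rfl⟩
    exact (lift_mul_qπ u g h).symm

end Group

end Groth.Agent.ShfQuotLib
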