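/-
Transport of group structures and actions along epimorphisms in cartesian monoidal categories.
-/
import Mathlib.CategoryTheory.Monoidal.Cartesian.Grp

universe v u

open CategoryTheory MonoidalCategory CartesianMonoidalCategory SemiCartesianMonoidalCategory MonObj

namespace Groth.Agent.ShfQuotLib

variable {D : Type u} [Category.{v} D] [CartesianMonoidalCategory D] {G Q : D}

theorem existsUnique_grpObj [hG : GrpObj G] (π : G ⟶ Q) [Epi π] (h₂ : Epi (π ⊗ₘ π))
    (h₃ : Epi ((π ⊗ₘ π) ⊗ₘ π)) (hl : Epi (𝟙_ D ◁ π)) (hr : Epi (π ▷ 𝟙_ D))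
    (m : Q ⊗ Q ⟶ Q) (hm : (π ⊗ₘ π) ≫ m = μ ≫ π) (i : Q ⟶ Q) (hi : π ≫ i = ι ≫ π) :
    ∃! str : GrpObj Q, @IsMonHom D _ _ G Q hG.toMonObj str.toMonObj π := by
  have hm' : ∀ {W : D} (a b : W ⟶ G), lift (a ≫ π) (b ≫ π) ≫ m = (a * b) ≫ π := fun a b => by
    rw [← lift_map, Category.assoc, hm, Hom.mul_def, Category.assoc]
  let str : GrpObj Q :=
    { one := η ≫ π
      mul := m
      one_mul := by
        rw [← cancel_epi (𝟙_ D ◁ π)]
        have e : (𝟙_ D ◁ π) ≫ (η ≫ π) ▷ Q = lift ((fst _ _ ≫ η) ≫ π) (snd _ _ ≫ π) := by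
          apply CartesianMonoidalCategory.hom_ext
          · rw [Category.assoc, whiskerRight_fst, whiskerLeft_fst_assoc, lift_fst, Category.assoc]
          · rw [Category.assoc, whiskerRight_snd, whiskerLeft_snd, lift_snd]
        rw [← Category.assoc, e, hm', show fst (𝟙_ D) G ≫ η = (1 : _ ⟶ G) by
          rw [Hom.one_def, toUnit_unique (fst (𝟙_ D) G) (toUnit _)], _root_.one_mul]
        simp [leftUnitor_hom]
      mul_one := by
        rw [← cancel_epi (π ▷ 𝟙_ D)]
        have e : (π ▷ 𝟙_ D) ≫ Q ◁ (η ≫ π) = lift (fst _ _ ≫ π) ((snd _ _ ≫ η) ≫ π) := by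
          apply CartesianMonoidalCategory.hom_ext
          · rw [Category.assoc, whiskerLeft_fst, whiskerRight_fst, lift_fst]
          · rw [Category.assoc, whiskerLeft_snd, whiskerRight_snd_assoc, lift_snd, Category.assoc]
        rw [← Category.assoc, e, hm', show snd G (𝟙_ D) ≫ η = (1 : _ ⟶ G) by
          rw [Hom.one_def, toUnit_unique (snd G (𝟙_ D)) (toUnit _)], _root_.mul_one]
        simp [rightUnitor_hom]
      mul_assoc := by
        rw [← cancel_epi ((π ⊗ₘ π) ⊗ₘ π)]
        have e₁ : ((π ⊗ₘ π) ⊗ₘ π) ≫ m ▷ Q =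
            lift ((fst (G ⊗ G) G ≫ μ) ≫ π) (snd (G ⊗ G) G ≫ π) := by
          apply CartesianMonoidalCategory.hom_ext
          · rw [Category.assoc, whiskerRight_fst, tensorHom_fst_assoc, hm, lift_fst, Category.assoc]
          · rw [Category.assoc, whiskerRight_snd, tensorHom_snd, lift_snd]
        have e₂ : ((π ⊗ₘ π) ⊗ₘ π) ≫ (α_ Q Q Q).hom ≫ Q ◁ m =
            lift ((fst (G ⊗ G) G ≫ fst G G) ≫ π)
              (((fst (G ⊗ G) G ≫ snd G G) * snd (G ⊗ G) G) ≫ π) := by
          apply CartesianMonoidalCategory.hom_ext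
          · rw [Category.assoc, Category.assoc, whiskerLeft_fst, associator_hom_fst,
              tensorHom_fst_assoc, tensorHom_fst, lift_fst, Category.assoc]
          · rw [lift_snd, ← hm', Category.assoc, Category.assoc, whiskerLeft_snd,
              ← Category.assoc (α_ Q Q Q).hom, ← Category.assoc]
            congr 1
            apply CartesianMonoidalCategory.hom_ext
            · rw [Category.assoc, Category.assoc, associator_hom_snd_fst, tensorHom_fst_assoc,
                tensorHom_snd, lift_fst, Category.assoc]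
            · rw [Category.assoc, Category.assoc, associator_hom_snd_snd, tensorHom_snd, lift_snd]
        rw [← Category.assoc, e₁, hm']
        rw [← Category.assoc (α_ Q Q Q).hom, ← Category.assoc, e₂, hm', ← _root_.mul_assoc]
        congr 2
        rw [Hom.mul_def (fst (G ⊗ G) G ≫ fst G G), ← comp_lift, lift_fst_snd, Category.comp_id]
      inv := i
      left_inv := by
        rw [← cancel_epi π, ← Category.assoc, comp_lift, hi, Category.comp_id]
        have : lift (ι ≫ π) π ≫ m = ((𝟙 G)⁻¹ * 𝟙 G) ≫ π := by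
          rw [← hm', Hom.inv_def, Category.id_comp, Category.id_comp]
        rw [this, inv_mul_cancel, Hom.one_def]
        simp
      right_inv := by
        rw [← cancel_epi π, ← Category.assoc, comp_lift, hi, Category.comp_id]
        have : lift π (ι ≫ π) ≫ m = (𝟙 G * (𝟙 G)⁻¹) ≫ π := by
          rw [← hm', Hom.inv_def, Category.id_comp, Category.id_comp]
        rw [this, mul_inv_cancel, Hom.one_def]
        simp }
  refine ⟨str, @IsMonHom.mk D _ _ G Q hG.toMonObj str.toMonObj π rfl hm.symm, fun str' hs => ?_⟩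
  apply GrpObj.ext
  apply MonObj.ext
  rw [← cancel_epi (π ⊗ₘ π)]
  exact (@IsMonHom.mul_hom D _ _ G Q hG.toMonObj str'.toMonObj π hs).symm.trans hm.symm

/-- Transport of the translation action along an epimorphism. -/
theorem existsUnique_act [hG : GrpObj G] (π : G ⟶ Q) [Epi π] (h₂ : Epi (G ◁ π))
    (h₃ : Epi ((G ⊗ G) ◁ π)) (hl : Epi (𝟙_ D ◁ π))
    (act : G ⊗ Q ⟶ Q) (hm : (G ◁ π) ≫ act = μ ≫ π) :
    ∃! act : G ⊗ Q ⟶ Q,
      (η[G] ▷ Q) ≫ act = (λ_ Q).hom ∧
        (μ[G] ▷ Q) ≫ act = (α_ G G Q).hom ≫ (G ◁ act) ≫ act ∧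
        μ[G] ≫ π = (G ◁ π) ≫ act := by
  have hm' : ∀ {W : D} (a b : W ⟶ G), lift a (b ≫ π) ≫ act = (a * b) ≫ π := fun a b => by
    rw [← lift_whiskerLeft, Category.assoc, hm, Hom.mul_def, Category.assoc]
  refine ⟨act, ⟨?_, ?_, hm.symm⟩, fun a' ha' => ?_⟩
  · rw [← cancel_epi (𝟙_ D ◁ π)]
    have e : (𝟙_ D ◁ π) ≫ η[G] ▷ Q = lift (fst _ _ ≫ η) (snd _ _ ≫ π) := by
      apply CartesianMonoidalCategory.hom_ext
      · rw [Category.assoc, whiskerRight_fst, whiskerLeft_fst_assoc, lift_fst]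
      · rw [Category.assoc, whiskerRight_snd, whiskerLeft_snd, lift_snd]
    rw [← Category.assoc, e, hm', show fst (𝟙_ D) G ≫ η = (1 : _ ⟶ G) by
      rw [Hom.one_def, toUnit_unique (fst (𝟙_ D) G) (toUnit _)], _root_.one_mul]
    simp [leftUnitor_hom]
  · rw [← cancel_epi ((G ⊗ G) ◁ π)]
    have e₁ : ((G ⊗ G) ◁ π) ≫ μ[G] ▷ Q = lift (fst (G ⊗ G) G ≫ μ) (snd (G ⊗ G) G ≫ π) := by
      apply CartesianMonoidalCategory.hom_ext
      · rw [Category.assoc, whiskerRight_fst, whiskerLeft_fst_assoc, lift_fst]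
      · rw [Category.assoc, whiskerRight_snd, whiskerLeft_snd, lift_snd]
    have e₂ : ((G ⊗ G) ◁ π) ≫ (α_ G G Q).hom ≫ G ◁ act =
        lift (fst (G ⊗ G) G ≫ fst G G)
          (((fst (G ⊗ G) G ≫ snd G G) * snd (G ⊗ G) G) ≫ π) := by
      apply CartesianMonoidalCategory.hom_ext
      · rw [Category.assoc, Category.assoc, whiskerLeft_fst, associator_hom_fst,
          whiskerLeft_fst_assoc, lift_fst]
      · rw [lift_snd, ← hm', Category.assoc, Category.assoc, whiskerLeft_snd,
          ← Category.assoc (α_ G G Q).hom, ← Category.assoc]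
        congr 1
        apply CartesianMonoidalCategory.hom_ext
        · rw [Category.assoc, Category.assoc, associator_hom_snd_fst, whiskerLeft_fst_assoc,
            lift_fst]
        · rw [Category.assoc, Category.assoc, associator_hom_snd_snd, whiskerLeft_snd, lift_snd]
    rw [← Category.assoc, e₁, hm']
    rw [← Category.assoc (α_ G G Q).hom, ← Category.assoc, e₂, hm', ← _root_.mul_assoc]
    congr 2
    rw [Hom.mul_def (fst (G ⊗ G) G ≫ fst G G), ← comp_lift, lift_fst_snd, Category.comp_id]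
  · rw [← cancel_epi (G ◁ π), ← ha'.2.2, hm]

end Groth.Agent.ShfQuotLib
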